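import Mathlib
import Groth.Prelude.Def_W4c6nonredquotmfGoodQuot
import Groth.Agent.AlgGrpLib.OrbitDim
import Groth.Agent.SGA3xLib.SepFibre

/-! Good quotients: topology, orbit closures in fibres, closed orbits. -/

set_option autoImplicit false
set_option backward.isDefEq.respectTransparency.types false

universe u

open CategoryTheory Limits MonoidalCategory CartesianMonoidalCategory MonObj GrpObj AlgebraicGeometry
open Groth.Agent.SGA3cLib Groth.Agent.AlgGrpLib Topology

namespace Groth.Agent.GQuot15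

variable {k : Type u} [Field k]

local notation "Pt" => 𝟙_ (Over (Spec (CommRingCat.of k)))

/-- The image of a rational point. -/
noncomputable abbrev ptv {Y : Over (Spec (CommRingCat.of k))} (p : Pt ⟶ Y) : Y.left :=
  p.left.base (IsLocalRing.closedPoint k)

theorem apply_eq_ptv {Y : Over (Spec (CommRingCat.of k))} (p : Pt ⟶ Y)
    (t : ↥(Pt).left) : p.left.base t = ptv p :=
  congrArg p.left.base (Subsingleton.elim (α := PrimeSpectrum k) t _)

theorem ptv_comp {Y Z : Over (Spec (CommRingCat.of k))} (p : Pt ⟶ Y) (f : Y ⟶ Z) :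
    ptv (p ≫ f) = f.left.base (ptv p) := rfl

theorem isClosed_ptv {Y : Over (Spec (CommRingCat.of k))} (p : Pt ⟶ Y) : IsClosed ({ptv p} : Set Y.left) := by
  have h : Set.range p.left.base = {ptv p} :=
    Set.eq_singleton_iff_unique_mem.2 ⟨⟨_, rfl⟩, by rintro _ ⟨t, rfl⟩; exact apply_eq_ptv p t⟩
  rw [← h]
  exact SGA3xLib.range_isClosed_of_section Y.hom p.left (Over.w p)

theorem kpt_ext {Y : Over (Spec (CommRingCat.of k))} (p q : Pt ⟶ Y) (h : ptv p = ptv q) : p = q := by
  have key : ∀ r : Pt ⟶ Y, ∃ φ : Y.left.residueField (ptv r) ⟶ CommRingCat.of k,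
      Spec.map φ ≫ Y.left.fromSpecResidueField (ptv r) = r.left := by
    intro r
    obtain ⟨⟨y, φ⟩, hy⟩ := (Scheme.SpecToEquivOfField k Y.left).symm.surjective r.left
    have hy' : Spec.map φ ≫ Y.left.fromSpecResidueField y = r.left := hy
    have hpt : ptv r = y := by
      show r.left.base _ = y
      rw [← hy', Scheme.Hom.comp_apply, Scheme.fromSpecResidueField_apply]
    subst hpt
    exact ⟨φ, hy'⟩
  obtain ⟨φ, hφ⟩ := key p
  obtain ⟨ψ, hψ⟩ := key q
  generalize ptv p = y at φ hφ h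
  subst h
  let iota : CommRingCat.of k ⟶ Y.left.residueField (ptv q) :=
    Spec.preimage (Y.left.fromSpecResidueField (ptv q) ≫ Y.hom)
  have hι : ∀ (χ : Y.left.residueField (ptv q) ⟶ CommRingCat.of k) (r : Pt ⟶ Y),
      Spec.map χ ≫ Y.left.fromSpecResidueField (ptv q) = r.left → iota ≫ χ = 𝟙 _ := by
    intro χ r hr
    apply Spec.map_injective
    rw [Spec.map_comp, Spec.map_id, Spec.map_preimage, ← Category.assoc, hr]
    exact Over.w r
  have hi : φ ≫ iota = 𝟙 _ := by
    ext z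
    exact φ.hom.injective (ConcreteCategory.congr_hom (hι φ p hφ) (φ z))
  have : ψ = φ := by rw [← Category.id_comp ψ, ← hi, Category.assoc, hι ψ q hψ, Category.comp_id]
  exact Over.OverMorphism.ext (by rw [← hφ, ← hψ, this])

variable {G X Y : Over (Spec (CommRingCat.of k))} [GrpObj G] (a : AlgGrp.Action G X) (φ : X ⟶ Y)

theorem comp_orbitMap (g : Pt ⟶ G) (x : Pt ⟶ X) : g ≫ a.orbitMap x = lift g x ≫ a.act := by
  rw [AlgGrp.Action.orbitMap, comp_lift_assoc, Category.comp_id, ← Category.assoc,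
    toUnit_unique (g ≫ toUnit G) (𝟙 Pt), Category.id_comp]

theorem ptv_mem_orbit (x : Pt ⟶ X) : ptv x ∈ Set.range (a.orbitMap x).left.base := by
  have h : η[G] ≫ a.orbitMap x = x := by
    rw [comp_orbitMap]
    show smulPt a η[G] x = x
    have h1 : (η[G] : Pt ⟶ G) = 1 := by
      rw [Hom.one_def, toUnit_unique (toUnit Pt) (𝟙 Pt), Category.id_comp]
    rw [h1, one_smulPt]
  exact ⟨η[G].left.base (IsLocalRing.closedPoint k), congrArg (fun f : Pt ⟶ X => ptv f) h⟩

variable {a φ}

theorem orbitMap_comp (hinv : GIT.IsInvariant a φ) (x : Pt ⟶ X) : a.orbitMap x ≫ φ = toUnit G ≫ x ≫ φ := by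
  rw [AlgGrp.Action.orbitMap, Category.assoc, hinv, lift_snd_assoc, Category.assoc]

theorem apply_orbit (hinv : GIT.IsInvariant a φ) (x : Pt ⟶ X) {z : X.left}
    (hz : z ∈ Set.range (a.orbitMap x).left.base) : φ.left.base z = ptv (x ≫ φ) := by
  obtain ⟨g, rfl⟩ := hz
  have := congrArg (fun f : G ⟶ Y => f.left.base g) (orbitMap_comp hinv x)
  exact this.trans (apply_eq_ptv (x ≫ φ) _)

theorem apply_closure_orbit (hinv : GIT.IsInvariant a φ) (x : Pt ⟶ X) {z : X.left}
    (hz : z ∈ closure (Set.range (a.orbitMap x).left.base)) : φ.left.base z = ptv (x ≫ φ) := by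
  have h : closure (Set.range (a.orbitMap x).left.base) ⊆ φ.left.base ⁻¹' {ptv (x ≫ φ)} :=
    closure_minimal (fun _ hz => apply_orbit hinv x hz) ((isClosed_ptv _).preimage φ.left.continuous)
  exact h hz

theorem isQuotientMap_of_isGoodQuot (h : NRQuot.IsGoodQuot a φ) : IsQuotientMap φ.left.base := by
  have hsurj : Function.Surjective φ.left.base := by
    intro y
    have := h.inter PEmpty (fun i => i.elim) (fun i => i.elim) (fun i => i.elim)
    have hy : y ∈ φ.left.base '' (⋂ i : PEmpty.{u+1}, (fun i => i.elim) i) := this ▸ Set.mem_iInter.2 fun i => i.elim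
    exact ⟨hy.choose, hy.choose_spec.2⟩
  refine isQuotientMap_iff_isClosed.2 ⟨hsurj, fun s => ⟨fun hs => hs.preimage φ.left.continuous, fun hs => ?_⟩⟩
  rw [← Set.image_preimage_eq s hsurj]
  refine h.closed _ hs fun p hp => ?_
  have : φ.left.base (a.act.left.base p) = φ.left.base ((snd G X).left.base p) :=
    congrArg (fun f : G ⊗ X ⟶ Y => f.left.base p) h.inv
  show φ.left.base (a.act.left.base p) ∈ s
  rw [this]
  exact hp

theorem closure_orbit_inter_iff (h : NRQuot.IsGoodQuot a φ) (x₁ x₂ : Pt ⟶ X) :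
    (closure (Set.range (a.orbitMap x₁).left.base) ∩ closure (Set.range (a.orbitMap x₂).left.base)).Nonempty ↔
      x₁ ≫ φ = x₂ ≫ φ := by
  constructor
  · rintro ⟨z, h1, h2⟩
    exact kpt_ext _ _ ((apply_closure_orbit h.inv x₁ h1).symm.trans (apply_closure_orbit h.inv x₂ h2))
  · intro he
    let W : ULift.{u} Bool → Set X.left := fun i =>
      closure (Set.range (a.orbitMap (cond i.down x₁ x₂)).left.base)
    have hinter := h.inter (ULift.{u} Bool) W (fun i => isClosed_closure)
      (fun i p hp => OrbitLC.act_mem_closure_orbit a _ hp)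
    have hm : ptv (x₁ ≫ φ) ∈ ⋂ i, φ.left.base '' W i := by
      refine Set.mem_iInter.2 fun ⟨i⟩ => ?_
      cases i
      · exact ⟨ptv x₂, subset_closure (ptv_mem_orbit a x₂), by rw [he]; rfl⟩
      · exact ⟨ptv x₁, subset_closure (ptv_mem_orbit a x₁), rfl⟩
    rw [← hinter] at hm
    obtain ⟨z, hz, -⟩ := hm
    rw [Set.mem_iInter] at hz
    exact ⟨z, hz ⟨true⟩, hz ⟨false⟩⟩

section lft

variable [LocallyOfFiniteType G.hom] [QuasiCompact G.hom] [LocallyOfFiniteType X.hom]

variable (a) in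
theorem isLocallyClosed_orbit (x : Pt ⟶ X) : IsLocallyClosed (Set.range (a.orbitMap x).left.base) := by
  haveI : IsLocallyNoetherian X.left := LocallyOfFiniteType.isLocallyNoetherian X.hom
  haveI : CompactSpace ↥G.left := QuasiCompact.compactSpace_of_compactSpace G.hom
  haveI : LocallyOfFiniteType ((a.orbitMap x).left ≫ X.hom) := by rw [Over.w]; infer_instance
  haveI : LocallyOfFiniteType (a.orbitMap x).left := locallyOfFiniteType_of_comp _ X.hom
  haveI : LocallyOfFinitePresentation (a.orbitMap x).left := inferInstance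
  haveI : QuasiCompact (a.orbitMap x).left := inferInstance
  refine OrbitLC.isLocallyClosed_range_orbitMap a x ?_
  have hc := (a.orbitMap x).left.isLocallyConstructible_image IsLocallyConstructible.univ
  rw [Set.image_univ] at hc
  exact hc.isConstructible_of_subset_of_isCompact subset_rfl (isCompact_range (a.orbitMap x).left.continuous)

omit [QuasiCompact G.hom] [LocallyOfFiniteType X.hom] in
theorem exists_kpt_of_mem_orbit [IsAlgClosed k] (x x' : Pt ⟶ X)
    (h : ptv x' ∈ Set.range (a.orbitMap x).left.base) : ∃ g : Pt ⟶ G, lift g x ≫ a.act = x' := by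
  obtain ⟨t₀, ht₀⟩ := h
  obtain ⟨g, hg⟩ := OrbitDim.exists_ratPoint_mem (X := G)
    (S := (a.orbitMap x).left.base ⁻¹' {ptv x'})
    ((isClosed_ptv x').preimage (a.orbitMap x).left.continuous).isLocallyClosed ⟨t₀, ht₀⟩
  exact ⟨g, by rw [← comp_orbitMap]; exact kpt_ext _ _ (hg _)⟩

theorem exists_kpt_of_closed [IsAlgClosed k] (h : NRQuot.IsGoodQuot a φ) (x x' : Pt ⟶ X)
    (he : x ≫ φ = x' ≫ φ) (hc : IsClosed (Set.range (a.orbitMap x).left.base))
    (hc' : IsClosed (Set.range (a.orbitMap x').left.base)) : ∃ g : Pt ⟶ G, lift g x ≫ a.act = x' := by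
  obtain ⟨z, hz, hz'⟩ := (closure_orbit_inter_iff h x x').2 he
  rw [hc.closure_eq] at hz
  rw [hc'.closure_eq] at hz'
  obtain ⟨w, hw⟩ := OrbitDim.exists_ratPoint_mem (X := X)
    (S := Set.range (a.orbitMap x).left.base ∩ Set.range (a.orbitMap x').left.base)
    (hc.inter hc').isLocallyClosed ⟨z, hz, hz'⟩
  obtain ⟨g, hg⟩ := exists_kpt_of_mem_orbit x w (hw _).1
  obtain ⟨g', hg'⟩ := exists_kpt_of_mem_orbit x' w (hw _).2
  refine ⟨g'⁻¹ * g, ?_⟩
  show smulPt a (g'⁻¹ * g) x = x'
  rw [mul_smulPt, show smulPt a g x = w from hg, ← hg']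
  exact inv_smulPt a _ _

theorem exists_closed_orbit [IsAlgClosed k] (h : NRQuot.IsGoodQuot a φ) (y : Pt ⟶ Y) :
    ∃ x : Pt ⟶ X, x ≫ φ = y ∧ IsClosed (Set.range (a.orbitMap x).left.base) ∧
      ∀ x' : Pt ⟶ X, x' ≫ φ = y → IsClosed (Set.range (a.orbitMap x').left.base) →
        ∃ g : Pt ⟶ G, lift g x ≫ a.act = x' := by
  haveI : IsLocallyNoetherian X.left := LocallyOfFiniteType.isLocallyNoetherian X.hom
  haveI := h.affine
  obtain ⟨V, hV, hyV, -⟩ := exists_isAffineOpen_mem_and_subset (x := ptv y) (U := ⊤) trivial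
  let W := φ.left ⁻¹ᵁ V
  haveI : IsAffine W.toScheme := hV.preimage φ.left
  haveI : IsNoetherian W.toScheme := {}
  let O : (Pt ⟶ X) → TopologicalSpace.Closeds ↥W.toScheme := fun x =>
    ⟨W.ι.base ⁻¹' closure (Set.range (a.orbitMap x).left.base), isClosed_closure.preimage W.ι.continuous⟩
  obtain ⟨t₀, ht₀⟩ := (isQuotientMap_of_isGoodQuot h).surjective (ptv y)
  obtain ⟨x₁, hx₁⟩ := OrbitDim.exists_ratPoint_mem (X := X) (S := φ.left.base ⁻¹' {ptv y})
    ((isClosed_ptv y).preimage φ.left.continuous).isLocallyClosed ⟨t₀, ht₀⟩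
  obtain ⟨_, ⟨x, hxy, rfl⟩, hmin⟩ := (wellFounded_lt (α := TopologicalSpace.Closeds ↥W.toScheme)).has_min
    (O '' {x | x ≫ φ = y}) ⟨_, x₁, kpt_ext _ _ (hx₁ _), rfl⟩
  have hclosed : IsClosed (Set.range (a.orbitMap x).left.base) := by
    by_contra hnc
    set C := Set.range (a.orbitMap x).left.base with hC
    obtain ⟨U, Z, hU, hZ, hUZ⟩ := isLocallyClosed_orbit a x
    have hne : (closure C \ C).Nonempty := by
      by_contra h'
      rw [Set.not_nonempty_iff_eq_empty, Set.sdiff_eq_empty] at h'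
      exact hnc (closure_subset_iff_isClosed.1 h')
    have hclZ : closure C ⊆ Z := closure_minimal (hC ▸ hUZ ▸ Set.inter_subset_right) hZ
    have hB : closure C \ C = closure C ∩ Uᶜ := by
      ext z
      exact ⟨fun hz => ⟨hz.1, fun hzU => hz.2 (hC ▸ hUZ ▸ ⟨hzU, hclZ hz.1⟩)⟩,
        fun hz => ⟨hz.1, fun hzC => hz.2 (hUZ ▸ hzC : z ∈ U ∩ Z).1⟩⟩
    have hBc : IsClosed (closure C \ C) := hB ▸ isClosed_closure.inter hU.isClosed_compl
    obtain ⟨x', hx'⟩ := OrbitDim.exists_ratPoint_mem (X := X) hBc.isLocallyClosed hne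
    have hsub := closure_minimal (OrbitLC.range_orbitMap_subset_boundary a x x' hx') hBc
    have hx'y : x' ≫ φ = y := (kpt_ext _ _ (apply_closure_orbit h.inv x (hx' _).1)).trans hxy
    refine hmin _ ⟨x', hx'y, rfl⟩ (lt_of_le_of_ne (fun z hz => (hsub hz).1) fun heq => ?_)
    have hxW : ptv x ∈ W := by
      show φ.left.base (ptv x) ∈ V
      rw [← ptv_comp, hxy]
      exact hyV
    have : (⟨ptv x, hxW⟩ : ↥W.toScheme) ∈ O x := subset_closure (ptv_mem_orbit a x)
    rw [← heq] at this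
    exact (hsub this).2 (ptv_mem_orbit a x)
  exact ⟨x, hxy, hclosed, fun x' hx' hc' => exists_kpt_of_closed h x x' (hxy.trans hx'.symm) hclosed hc'⟩

end lft

end Groth.Agent.GQuot15
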