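import Mathlib
import Groth.Prelude.Def_W4c6nonredquotmfGoodQuot
import Groth.Agent.AlgGrpLib.OrbitLC

/-! Good quotients restrict to preimages of opens of the quotient. -/

set_option autoImplicit false
set_option backward.isDefEq.respectTransparency.types false

universe u

open CategoryTheory Limits MonoidalCategory CartesianMonoidalCategory MonObj GrpObj AlgebraicGeometry
open Groth.Agent.AlgGrpLib Opposite

namespace Groth.Agent.GQuot15

variable {k : Type u} [Field k] {G X Y X₀ Y₀ : Over (Spec (CommRingCat.of k))} [GrpObj G]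

theorem bijective_appLE_of_le_range {A B : Scheme.{u}} (f : A ⟶ B) [IsOpenImmersion f] (V : B.Opens) (W : A.Opens)
    (hV : (V : Set B) ⊆ Set.range f.base) (hW : W = f ⁻¹ᵁ V) :
    Function.Bijective (f.appLE V W hW.le) := by
  subst hW
  rw [Scheme.Hom.appLE_eq_app]
  have : IsIso (f.app V) := f.isIso_app V hV
  exact ConcreteCategory.bijective_of_isIso (f.app V)

theorem isGoodQuot_of_open (a : AlgGrp.Action G X) (φ : X ⟶ Y) (h : NRQuot.IsGoodQuot a φ)
    (aU : AlgGrp.Action G X₀) (j : X₀ ⟶ X) [IsOpenImmersion j.left] (i : Y₀ ⟶ Y) [IsOpenImmersion i.left]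
    (haU : aU.act ≫ j = (G ◁ j) ≫ a.act) (φU : X₀ ⟶ Y₀) (hφU : φU ≫ i = j ≫ φ)
    (hrange : Set.range j.left.base = φ.left.base ⁻¹' Set.range i.left.base) :
    NRQuot.IsGoodQuot aU φU := by
  have hw : φU.left ≫ i.left = j.left ≫ φ.left := congrArg Over.Hom.left hφU
  have hφapp : ∀ z, i.left.base (φU.left.base z) = φ.left.base (j.left.base z) := fun z =>
    congrArg (fun f : X₀.left ⟶ Y.left => f.base z) hw
  have hrj : ∀ z, φ.left.base z ∈ Set.range i.left.base → ∃ w, j.left.base w = z := fun z hz => by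
    have : z ∈ Set.range j.left.base := hrange ▸ hz
    exact this
  have hpb : IsPullback φU.left j.left i.left φ.left :=
    IsOpenImmersion.isPullback φU.left j.left i.left φ.left hw.symm (TopologicalSpace.Opens.ext hrange.symm)
  haveI : IsAffineHom φU.left := MorphismProperty.of_isPullback (P := @IsAffineHom) hpb.flip h.affine
  let Φ : G ⊗ X₀ ⟶ G ⊗ X := G ◁ j
  have hΦr : Set.range Φ.left.base = (snd G X).left.base ⁻¹' Set.range j.left.base := by
    show Set.range (G ◁ j).left.base = _
    rw [Over.whiskerLeft_left, Scheme.Pullback.range_map _ _ _ _ (𝟙 G.left) j.left (𝟙 _) (by simp) (by simp)]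
    simp only [Scheme.Hom.id_base, TopCat.coe_id, Set.range_id, Set.preimage_univ, Set.univ_inter]
    rfl
  haveI : IsOpenImmersion Φ.left := by
    show IsOpenImmersion (G ◁ j).left
    rw [Over.whiskerLeft_left]
    infer_instance
  have hact : ∀ q, j.left.base (aU.act.left.base q) = a.act.left.base (Φ.left.base q) := fun q =>
    congrArg (fun f : G ⊗ X₀ ⟶ X => f.left.base q) haU
  have hsnd : ∀ q, j.left.base ((snd G X₀).left.base q) = (snd G X).left.base (Φ.left.base q) := fun q =>
    congrArg (fun f : G ⊗ X₀ ⟶ X => f.left.base q) (whiskerLeft_snd G j).symm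
  have hclos : ∀ W : Set X₀.left, IsClosed W → NRQuot.IsInvariantSet aU W →
      NRQuot.IsInvariantSet a (closure (j.left.base '' W)) ∧
      ∀ w, j.left.base w ∈ closure (j.left.base '' W) → w ∈ W := by
    intro W hWc hWi
    refine ⟨fun p hp => ?_, fun w hw' => ?_⟩
    · have h1 : p ∈ closure ((snd G X).left.base ⁻¹' (j.left.base '' W)) := by
        rw [← (OrbitLC.isOpenMap_snd_left G X).preimage_closure_eq_closure_preimage (snd G X).left.continuous]
        exact hp
      refine map_mem_closure a.act.left.continuous h1 ?_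
      rintro y ⟨w, hwW, hwy⟩
      obtain ⟨q, rfl⟩ : y ∈ Set.range Φ.left.base := hΦr ▸ ⟨w, hwy⟩
      refine ⟨aU.act.left.base q, hWi q ?_, hact q⟩
      have : (snd G X₀).left.base q = w := j.left.isOpenEmbedding.injective ((hsnd q).trans hwy.symm)
      exact this ▸ hwW
    · have : w ∈ closure W := by
        rw [j.left.isOpenEmbedding.isInducing.closure_eq_preimage_closure_image]
        exact hw'
      rwa [hWc.closure_eq] at this
  refine ⟨‹_›, ?_, fun V => ?_, fun W hWc hWi => ?_, fun J W hWc hWi => ?_⟩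
  · show aU.act ≫ φU = snd G X₀ ≫ φU
    haveI : Mono i := (Over.forget _).mono_of_mono_map (inferInstanceAs (Mono i.left))
    rw [← cancel_mono i, Category.assoc, Category.assoc, hφU, ← Category.assoc, haU, Category.assoc, h.inv,
      ← Category.assoc, whiskerLeft_snd, Category.assoc]
  · let V' := i.left ''ᵁ V
    have hV' : V = i.left ⁻¹ᵁ V' := (i.left.preimage_image_eq V).symm
    let P' := φ.left ⁻¹ᵁ V'
    let P := φU.left ⁻¹ᵁ V
    have hP : P = j.left ⁻¹ᵁ P' := by
      show φU.left ⁻¹ᵁ V = j.left ⁻¹ᵁ (φ.left ⁻¹ᵁ V')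
      rw [hV', ← Scheme.Hom.comp_preimage, ← Scheme.Hom.comp_preimage, hw]
    have hV'r : (V' : Set Y.left) ⊆ Set.range i.left.base := by
      rintro _ ⟨v, -, rfl⟩; exact ⟨v, rfl⟩
    have hP'r : (P' : Set X.left) ⊆ Set.range j.left.base := fun z hz => hrj z (hV'r hz)
    have bi := bijective_appLE_of_le_range i.left V' V hV'r hV'
    have bj := bijective_appLE_of_le_range j.left P' P hP'r hP
    have hcomm : ∀ s, φU.left.app V (i.left.appLE V' V hV'.le s) = j.left.appLE P' P hP.le (φ.left.app V' s) := by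
      intro s
      rw [← CommRingCat.comp_apply, ← CommRingCat.comp_apply, ← Scheme.Hom.appLE_eq_app,
        ← Scheme.Hom.appLE_eq_app, Scheme.Hom.appLE_comp_appLE, Scheme.Hom.appLE_comp_appLE]
      congr 3
    let W' := a.act.left ⁻¹ᵁ P' ⊓ (snd G X).left ⁻¹ᵁ P'
    let W := aU.act.left ⁻¹ᵁ P ⊓ (snd G X₀).left ⁻¹ᵁ P
    have hW : W = Φ.left ⁻¹ᵁ W' := by
      ext q
      show (aU.act.left.base q ∈ P ∧ (snd G X₀).left.base q ∈ P) ↔
        (a.act.left.base (Φ.left.base q) ∈ P' ∧ (snd G X).left.base (Φ.left.base q) ∈ P')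
      rw [← hact, ← hsnd, hP]
      rfl
    have bΦ := bijective_appLE_of_le_range Φ.left W' W (fun p hp => hΦr ▸ hP'r hp.2) hW
    have ha : ∀ g, aU.act.left.appLE P W inf_le_left (j.left.appLE P' P hP.le g) =
        Φ.left.appLE W' W hW.le (a.act.left.appLE P' W' inf_le_left g) := by
      intro g
      rw [← CommRingCat.comp_apply, ← CommRingCat.comp_apply, Scheme.Hom.appLE_comp_appLE,
        Scheme.Hom.appLE_comp_appLE]
      congr 3
      exact congrArg Over.Hom.left haU
    have hs : ∀ g, (snd G X₀).left.appLE P W inf_le_right (j.left.appLE P' P hP.le g) =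
        Φ.left.appLE W' W hW.le ((snd G X).left.appLE P' W' inf_le_right g) := by
      intro g
      rw [← CommRingCat.comp_apply, ← CommRingCat.comp_apply, Scheme.Hom.appLE_comp_appLE,
        Scheme.Hom.appLE_comp_appLE]
      congr 3
      exact congrArg Over.Hom.left (whiskerLeft_snd G j).symm
    obtain ⟨hinj, hrng⟩ := h.sections V'
    constructor
    · intro s t hst
      obtain ⟨s', rfl⟩ := bi.2 s
      obtain ⟨t', rfl⟩ := bi.2 t
      rw [hcomm, hcomm] at hst
      exact congrArg _ (hinj (bj.1 hst))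
    · ext f
      obtain ⟨g, rfl⟩ := bj.2 f
      show _ ↔ GIT.IsInvSection aU φU V (j.left.appLE P' P hP.le g)
      have hg : GIT.IsInvSection aU φU V (j.left.appLE P' P hP.le g) ↔ g ∈ Set.range (φ.left.app V') := by
        rw [hrng, Set.mem_ofPred_eq]
        exact ⟨fun e => bΦ.1 ((ha g).symm.trans (e.trans (hs g))),
          fun e => (ha g).trans ((congrArg _ e).trans (hs g).symm)⟩
      rw [hg]
      constructor
      · rintro ⟨s, hs'⟩
        obtain ⟨s', rfl⟩ := bi.2 s
        rw [hcomm] at hs'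
        exact ⟨s', bj.1 hs'⟩
      · rintro ⟨s', hs'⟩
        exact ⟨i.left.appLE V' V hV'.le s', by rw [hcomm, hs']⟩
  · obtain ⟨hi, hj⟩ := hclos W hWc hWi
    have hc := h.closed _ isClosed_closure hi
    have : φU.left.base '' W = i.left.base ⁻¹' (φ.left.base '' closure (j.left.base '' W)) := by
      ext v
      constructor
      · rintro ⟨w, hwW, rfl⟩
        exact ⟨j.left.base w, subset_closure ⟨w, hwW, rfl⟩, (hφapp w).symm⟩
      · rintro ⟨z, hz, hzv⟩
        obtain ⟨w, rfl⟩ := hrj z ⟨v, hzv.symm⟩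
        exact ⟨w, hj w hz, i.left.isOpenEmbedding.injective ((hφapp w).trans hzv)⟩
    rw [this]
    exact hc.preimage i.left.continuous
  · refine Set.Subset.antisymm (Set.image_iInter_subset _ _) fun v hv => ?_
    rw [Set.mem_iInter] at hv
    have hinter := h.inter J (fun l => closure (j.left.base '' W l)) (fun l => isClosed_closure)
      (fun l => (hclos _ (hWc l) (hWi l)).1)
    have hm : i.left.base v ∈ ⋂ l, φ.left.base '' closure (j.left.base '' W l) := by
      refine Set.mem_iInter.2 fun l => ?_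
      obtain ⟨w, hwW, rfl⟩ := hv l
      exact ⟨j.left.base w, subset_closure ⟨w, hwW, rfl⟩, (hφapp w).symm⟩
    rw [← hinter] at hm
    obtain ⟨z, hz, hzv⟩ := hm
    obtain ⟨w, rfl⟩ := hrj z ⟨v, hzv.symm⟩
    rw [Set.mem_iInter] at hz
    exact ⟨w, Set.mem_iInter.2 fun l => (hclos _ (hWc l) (hWi l)).2 w (hz l),
      i.left.isOpenEmbedding.injective ((hφapp w).trans hzv)⟩

end Groth.Agent.GQuot15
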